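import Cfsg.Agent.Lib.Sporadic.ThPres.Check

set_option autoImplicit false
set_option maxRecDepth 20000

/-! Action of the letters on the extraspecial kernel, with traces (generated; owner: helper3). -/

namespace CfsgLib.Sporadic.ThOut

open CfsgLib.Sporadic.ThPres (Use)

/-- images of the eight generators of the kernel: exponents of the normal form -/
def actRows : List (List ℕ) := [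
  [1, 2, 4, 8, 16, 32, 64, 128],
  [1, 2, 4, 8, 16, 32, 64, 128],
  [2, 1, 4, 12, 32, 16, 160, 80],
  [1, 4, 2, 15, 182, 123, 231, 219],
  [1, 2, 16, 64, 123, 4, 138, 8],
  [1, 2, 4, 8, 123, 159, 138, 194],
  [1, 8, 15, 2, 44, 29, 128, 64]]

/-- images of the eight generators of the kernel: central parts -/
def actSigns : List (List Bool) := [
  [false, false, false, false, false, false, false, false],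
  [false, true, true, true, true, true, true, true],
  [false, false, false, false, false, false, false, false],
  [false, false, false, false, true, false, false, true],
  [false, false, false, false, false, false, false, false],
  [false, false, false, false, false, false, false, false],
  [false, false, false, true, false, true, false, true]]

/-- traces for a letter -/
def actUses0 : List (List Use) := [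
  [],
  [],
  [],
  [⟨[], 7, false, [0]⟩, ⟨[], 7, true, [4, 6, 2, 6, 4, 6]⟩, ⟨[], 7, false, [0, 6]⟩, ⟨[], 7, true, [0, 1]⟩],
  [],
  [],
  [⟨[5, 5, 5, 5, 5, 5], 7, false, [0]⟩, ⟨[], 7, true, [4, 6, 2, 6, 4, 6]⟩, ⟨[], 7, false, [0, 6]⟩, ⟨[], 7, true, [0, 1]⟩],
  [⟨[5], 7, false, [0]⟩, ⟨[], 7, true, [4, 6, 2, 6, 4, 6]⟩, ⟨[], 7, false, [0, 6]⟩, ⟨[], 7, true, [0, 1]⟩]]

/-- traces for a letter -/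
def actUses1 : List (List Use) := [
  [],
  [],
  [],
  [⟨[], 7, false, [1]⟩, ⟨[], 7, true, [1, 6, 4, 6, 2, 6, 4]⟩, ⟨[], 7, false, [0, 6]⟩, ⟨[], 7, true, [0, 1]⟩],
  [],
  [],
  [⟨[5, 5, 5, 5, 5, 5], 7, false, [1]⟩, ⟨[], 7, true, [1, 6, 4, 6, 2, 6, 4]⟩, ⟨[], 7, false, [0, 6]⟩, ⟨[], 7, true, [0, 1]⟩],
  [⟨[5], 7, false, [1]⟩, ⟨[], 7, true, [1, 6, 4, 6, 2, 6, 4]⟩, ⟨[], 7, false, [0, 6]⟩, ⟨[], 7, true, [0, 1]⟩]]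

/-- traces for a letter -/
def actUses2 : List (List Use) := [
  [],
  [],
  [],
  [⟨[3], 7, false, []⟩, ⟨[], 7, true, [6, 4, 6, 2, 6, 4]⟩, ⟨[3], 7, false, [0, 4, 6, 4, 6, 4, 6]⟩, ⟨[], 7, true, [2, 6, 1, 2]⟩],
  [],
  [],
  [⟨[5, 3], 7, false, []⟩, ⟨[], 7, true, [6, 4, 6, 2, 6, 4]⟩, ⟨[3], 7, false, [0, 4, 6, 4, 6, 4, 6]⟩, ⟨[], 7, true, [2, 6, 1, 2]⟩],
  [⟨[5, 5, 5, 5, 5, 5, 3], 7, false, []⟩, ⟨[], 7, true, [6, 4, 6, 2, 6, 4]⟩, ⟨[3], 7, false, [0, 4, 6, 4, 6, 4, 6]⟩, ⟨[], 7, true, [2, 6, 1, 2]⟩]]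

/-- traces for a letter -/
def actUses3 : List (List Use) := [
  [],
  [],
  [],
  [⟨[], 7, false, [2]⟩, ⟨[], 7, true, [2, 6, 4, 6, 2, 6, 4]⟩, ⟨[], 7, false, [0, 2, 6, 2]⟩, ⟨[], 7, true, [2, 6, 2, 6]⟩],
  [⟨[5], 7, false, [0, 4, 5, 6, 4, 6, 4, 5]⟩, ⟨[], 7, true, [2, 4, 5, 6, 4, 6, 4, 5, 6, 2]⟩],
  [⟨[5, 5, 5, 5, 5, 5], 7, false, [4, 10, 5, 6, 4, 6, 4, 5, 3]⟩, ⟨[], 7, true, [4, 10, 5, 6, 10, 5, 3, 6, 4, 5, 3]⟩, ⟨[5], 7, false, [0, 4, 6, 2, 6, 4]⟩, ⟨[], 7, true, [0, 6]⟩],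
  [⟨[5, 5, 5, 5, 5, 5], 7, false, [3, 5, 10]⟩, ⟨[], 7, true, [10, 5, 3, 6, 4, 6, 2, 6, 4]⟩, ⟨[6, 6, 5], 7, false, [1, 2, 3, 5, 6, 5, 6, 2, 6]⟩, ⟨[], 7, true, [1, 10, 5, 6, 5, 6]⟩, ⟨[5, 5, 5, 5, 5, 5], 7, false, [1, 2, 6, 5, 6, 2, 5, 3]⟩, ⟨[], 7, true, [3, 5, 6, 5, 3, 6, 5, 6, 5]⟩],
  [⟨[5], 7, false, [2, 10, 5, 3]⟩, ⟨[], 7, true, [2, 3, 5, 6, 4, 6, 2, 6, 4, 10]⟩, ⟨[], 7, false, [2, 10, 5, 6, 2, 5, 3]⟩, ⟨[], 7, true, [1, 3, 5, 6, 2, 5, 6, 2, 10]⟩, ⟨[5, 5, 5, 5, 5, 5, 5, 5, 5, 5, 5, 5], 7, false, [1, 2, 5, 3, 6, 5, 3, 6, 5, 3]⟩, ⟨[], 7, true, [2, 6, 4, 6, 10, 5, 3, 6, 2, 4]⟩, ⟨[5], 7, false, [0, 4, 6, 2, 6, 4]⟩, ⟨[], 7, true, [0, 6]⟩]]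

/-- traces for a letter -/
def actUses4 : List (List Use) := [
  [],
  [],
  [],
  [⟨[5, 5, 5, 5, 5, 5], 7, false, []⟩, ⟨[], 7, true, [6, 4, 6, 2, 6, 4]⟩, ⟨[], 7, false, [0, 6]⟩, ⟨[], 7, true, [0, 1]⟩],
  [⟨[5, 5, 5, 5, 5, 5], 7, false, [4, 10, 5, 6, 4, 6, 4, 5, 3]⟩, ⟨[], 7, true, [4, 10, 5, 6, 10, 5, 3, 6, 4, 5, 3]⟩, ⟨[5], 7, false, [0, 4, 6, 2, 6, 4]⟩, ⟨[], 7, true, [0, 6]⟩],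
  [],
  [⟨[5, 5, 5, 5, 5, 5, 5, 5, 5, 5, 5, 5], 7, false, []⟩, ⟨[], 7, true, [6, 4, 6, 2, 6, 4]⟩, ⟨[6, 5, 5, 5, 5, 5, 5], 7, false, [5, 6, 4, 5, 6, 10, 5, 6, 4]⟩, ⟨[], 7, true, [2, 4, 6, 1, 5, 3, 5, 6, 2, 4]⟩, ⟨[5, 5, 5, 5, 5, 5, 5, 5, 5, 5, 5, 5], 7, false, [4, 6, 1, 2, 6, 4, 10]⟩, ⟨[], 7, true, [3, 6, 1]⟩],
  [⟨[], 7, false, []⟩, ⟨[], 7, true, [6, 4, 6, 2, 6, 4]⟩, ⟨[], 7, false, [0, 6]⟩, ⟨[], 7, true, [0, 1]⟩]]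

/-- traces for a letter -/
def actUses5 : List (List Use) := [
  [],
  [],
  [],
  [⟨[], 7, false, [10]⟩, ⟨[], 7, true, [3, 6, 4, 6, 2, 6, 4]⟩, ⟨[], 7, false, [0, 6]⟩, ⟨[], 7, true, [0, 1]⟩],
  [⟨[5, 5, 5, 5, 5, 5], 7, false, [4, 10, 5, 6, 4, 6, 4, 5, 3]⟩, ⟨[], 7, true, [4, 10, 5, 6, 10, 5, 3, 6, 4, 5, 3]⟩, ⟨[5], 7, false, [0, 4, 6, 2, 6, 4]⟩, ⟨[], 7, true, [0, 6]⟩],
  [⟨[5], 7, false, [1, 3, 4, 5, 6, 2, 6, 4, 6, 5, 10]⟩, ⟨[], 7, true, [5, 6, 5, 3, 5, 6, 5, 10]⟩, ⟨[5, 5, 5, 5, 5, 5], 7, false, [0, 2, 6, 2]⟩, ⟨[], 7, true, [2, 6, 2, 6]⟩],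
  [⟨[5, 5, 5, 5, 5, 5, 5, 5, 5, 5, 5, 5], 7, false, [10]⟩, ⟨[], 7, true, [3, 6, 4, 6, 2, 6, 4]⟩, ⟨[6, 5, 5, 5, 5, 5, 5], 7, false, [5, 6, 4, 5, 6, 10, 5, 6, 4]⟩, ⟨[], 7, true, [2, 4, 6, 1, 5, 3, 5, 6, 2, 4]⟩, ⟨[5, 5, 5, 5, 5, 5, 5, 5, 5, 5, 5, 5], 7, false, [4, 6, 1, 2, 6, 4, 10]⟩, ⟨[], 7, true, [3, 6, 1]⟩],
  [⟨[6, 6, 5], 7, false, []⟩, ⟨[], 7, true, [6, 4, 6, 2, 6, 4]⟩, ⟨[6, 5, 5, 5, 5, 5, 5], 7, false, [4, 6, 10, 5, 3, 6, 4, 5, 6, 5]⟩, ⟨[], 7, true, [0, 4, 10, 5, 6, 2, 5, 6, 4, 5, 3]⟩, ⟨[5, 5, 5, 5, 5, 5, 5, 5, 5, 5, 5, 5], 7, false, [4, 6, 1, 2, 6, 4]⟩, ⟨[], 7, true, [6, 1]⟩]]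

/-- traces for a letter -/
def actUses6 : List (List Use) := [
  [⟨[], 7, false, []⟩, ⟨[], 7, true, [0]⟩],
  [⟨[], 7, false, []⟩, ⟨[], 7, true, [6, 4, 6, 2, 6, 4]⟩, ⟨[], 7, false, [0, 6]⟩, ⟨[], 7, true, [0, 1]⟩],
  [⟨[], 7, false, []⟩, ⟨[], 7, true, [4, 6, 1, 4, 6, 4]⟩, ⟨[], 7, false, [0, 2, 6, 2]⟩, ⟨[], 7, true, [2, 6, 2, 6]⟩],
  [⟨[], 7, false, []⟩, ⟨[], 7, true, [0, 1]⟩, ⟨[], 7, false, [6, 4, 6, 2, 6, 4]⟩, ⟨[], 7, true, [1, 6]⟩],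
  [⟨[], 7, false, []⟩, ⟨[], 7, true, [4, 10, 5, 6, 1, 4, 6, 4, 5, 3]⟩, ⟨[], 7, false, [0, 4, 6, 4, 6, 4, 6]⟩, ⟨[], 7, true, [2, 6, 1, 2]⟩],
  [⟨[], 7, false, []⟩, ⟨[], 7, true, [3, 5, 6, 4, 6, 2, 6, 4, 5, 10]⟩, ⟨[], 7, false, [4, 6, 1, 4, 6, 4, 6]⟩, ⟨[], 7, true, [0, 2, 6, 2]⟩],
  [⟨[], 7, false, []⟩, ⟨[], 15, false, [2, 5, 3, 6, 1, 5, 6, 4, 6, 10]⟩, ⟨[], 15, true, [5, 6, 10, 5, 3, 6, 4]⟩, ⟨[], 7, true, [2, 4, 6, 1, 10, 5, 3, 6, 2, 4, 6]⟩, ⟨[5], 7, false, [0, 6]⟩, ⟨[], 7, true, [0, 1]⟩],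
  [⟨[], 7, false, []⟩, ⟨[], 15, true, [0, 5, 3, 6, 5, 10, 5, 6, 4, 6]⟩, ⟨[], 15, false, [2, 5, 3, 6, 1, 2, 5, 6, 4, 10]⟩, ⟨[], 7, true, [10, 5, 6, 10, 5, 6, 10, 5, 6, 2]⟩, ⟨[5, 5, 5, 5, 5, 5], 7, false, [0, 6]⟩, ⟨[], 7, true, [0, 1]⟩]]

/-- traces -/
def actUses : List (List (List Use)) := [actUses0, actUses1, actUses2, actUses3, actUses4, actUses5, actUses6]

end CfsgLib.Sporadic.ThOut
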