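import Cfsg.Agent.Lib.Sporadic.ThPres.Cent.Extra
import Cfsg.Agent.Lib.Sporadic.ThOut.RowsData

/-!
# The eight-dimensional module of the centraliser of the central involution (owner: helper3)

An element of the extraspecial kernel modulo the centre is named by the exponents of its normal form, a number below
256; the centraliser acts on these numbers by conjugation, through the alternating group of degree nine.
-/

set_option autoImplicit false
set_option maxRecDepth 20000
set_option Elab.async false

namespace CfsgLib.Sporadic.ThOut

open Cfsg CfsgLib.Sporadic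
open CfsgLib.Sporadic.ThPres (thL isOne isOne_sound factTree pairsHold reps_first holds thL_flp)
open CfsgLib.Sporadic.ThPres.Cent

theorem parOn_xor (n m : ℕ) (l : List ℕ) (j : ℕ) :
    parOn (n ^^^ m) l j = xor (parOn n l j) (parOn m l j) := by
  induction l with
  | nil => rfl
  | cons i l ih =>
    show xor (Nat.testBit (n ^^^ m) i && formB i j) (parOn (n ^^^ m) l j) =
      xor (xor (Nat.testBit n i && formB i j) (parOn n l j)) (xor (Nat.testBit m i && formB i j) (parOn m l j))
    rw [ih, Nat.testBit_xor]
    cases Nat.testBit n i <;> cases Nat.testBit m i <;> cases formB i j <;> cases parOn n l j <;>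
      cases parOn m l j <;> rfl

/-- The sum of two names. -/
def vadd (v w : Fin 256) : Fin 256 := ⟨v.val ^^^ w.val, Nat.xor_lt_two_pow (n := 8) v.isLt w.isLt⟩

theorem vadd_zero : ∀ v : Fin 256, vadd 0 v = v := by decide +kernel

theorem normForm_add {x y z : Fin 256 × Bool} (h : normForm x * normForm y = normForm z) : z.1 = vadd x.1 y.1 := by
  refine par_eq (y := (vadd x.1 y.1, false)) fun j hj => ?_
  have ez := normForm_comm z hj
  have exy : normForm x * normForm y * kx j = kx j * (normForm x * normForm y) *
      zb (xor (parOn x.1 (List.range 8) j) (parOn y.1 (List.range 8) j)) := by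
    calc normForm x * normForm y * kx j = normForm x * (normForm y * kx j) := mul_assoc _ _ _
      _ = normForm x * kx j * (normForm y * zb (parOn y.1 (List.range 8) j)) := by rw [normForm_comm y hj]; group
      _ = kx j * normForm x * (zb (parOn x.1 (List.range 8) j) * normForm y) * zb (parOn y.1 (List.range 8) j) := by
        rw [normForm_comm x hj]; group
      _ = kx j * (normForm x * normForm y) * (zb (parOn x.1 (List.range 8) j) * zb (parOn y.1 (List.range 8) j)) := by
        rw [← zb_comm]; group
      _ = _ := by rw [zb_mul]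
  rw [h, ez] at exy
  rw [zb_inj (mul_left_cancel exy)]
  exact (parOn_xor _ _ _ _).symm

open Classical in
/-- The name of an element of the kernel. -/
noncomputable def vec (q : CA) : Fin 256 := if h : q ∈ QK then (normForm_surjective h).choose.1 else 0

theorem vec_normForm (x : Fin 256 × Bool) : vec (normForm x) = x.1 := by
  rw [vec, dif_pos (normForm_mem x)]
  exact congrArg Prod.fst (normForm_injective (normForm_surjective (normForm_mem x)).choose_spec)

theorem exists_zb {q : CA} (hq : q ∈ QK) : ∃ b, q = normForm (vec q, b) := by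
  obtain ⟨x, rfl⟩ := normForm_surjective hq
  exact ⟨x.2, by rw [vec_normForm]⟩

theorem vec_mul {q r : CA} (hq : q ∈ QK) (hr : r ∈ QK) : vec (q * r) = vadd (vec q) (vec r) := by
  obtain ⟨x, rfl⟩ := normForm_surjective hq
  obtain ⟨y, rfl⟩ := normForm_surjective hr
  obtain ⟨z, hz⟩ := normForm_surjective (mul_mem (normForm_mem x) (normForm_mem y))
  rw [← hz, vec_normForm, vec_normForm, vec_normForm, normForm_add hz.symm]

theorem prodOn_mem (n : ℕ) {l : List ℕ} (hl : ∀ i ∈ l, i < 8) : prodOn n l ∈ QK := by
  refine list_prod_mem fun g hg => ?_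
  obtain ⟨i, hi, rfl⟩ := List.mem_map.1 hg
  cases Nat.testBit n i
  · exact one_mem _
  · exact kx_mem (hl i hi)

theorem prodOn_range_zero : prodOn ((0 : Fin 256) : ℕ) (List.range 8) = 1 := List.prod_eq_one fun g hg => by
  obtain ⟨i, -, rfl⟩ := List.mem_map.1 hg
  simp

theorem normForm_zero (b : Bool) : normForm ((0 : Fin 256), b) = zb b := by
  unfold normForm
  rw [prodOn_range_zero, one_mul]

theorem zb_mem (b : Bool) : zb b ∈ QK := by
  cases b
  · exact one_mem _
  · exact za_mem

theorem vec_zb (b : Bool) : vec (zb b) = 0 := by rw [← normForm_zero, vec_normForm]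

theorem vec_mul_zb {q : CA} (hq : q ∈ QK) (b : Bool) : vec (q * zb b) = vec q := by
  rw [zb_comm, vec_mul (zb_mem b) hq, vec_zb, vadd_zero]

theorem vec_eq_zero {q : CA} (hq : q ∈ QK) (h : vec q = 0) : ∃ b, q = zb b := by
  obtain ⟨b, hb⟩ := exists_zb hq
  exact ⟨b, by rw [hb, h, normForm_zero]⟩

theorem vec_one : vec (1 : CA) = 0 := vec_zb false

theorem conj_mem (g : CA) {q : CA} (hq : q ∈ QK) : g⁻¹ * q * g ∈ QK := by
  simpa using (inferInstance : QK.Normal).conj_mem q hq g⁻¹

/-- The action of an element on the names. -/
noncomputable def av (g : CA) (v : Fin 256) : Fin 256 := vec (g⁻¹ * normForm (v, false) * g)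

theorem vec_conj (g : CA) {q : CA} (hq : q ∈ QK) : vec (g⁻¹ * q * g) = av g (vec q) := by
  obtain ⟨b, hb⟩ := exists_zb hq
  have e : q = normForm (vec q, false) * zb b := by
    rw [hb, vec_normForm]
    simp [normForm, zb]
  conv_lhs => rw [e]
  rw [show g⁻¹ * (normForm (vec q, false) * zb b) * g = g⁻¹ * normForm (vec q, false) * g * zb b by
    rw [mul_assoc g⁻¹, mul_assoc g⁻¹, mul_assoc g⁻¹, mul_assoc (normForm _), ← zb_comm g]; group]
  exact vec_mul_zb (conj_mem g (normForm_mem _)) b

theorem av_mul (g h : CA) (v : Fin 256) : av (g * h) v = av h (av g v) := by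
  show vec _ = _
  rw [show (g * h)⁻¹ * normForm (v, false) * (g * h) = h⁻¹ * (g⁻¹ * normForm (v, false) * g) * h by group,
    vec_conj h (conj_mem g (normForm_mem _))]
  rfl

theorem av_of_mem {q : CA} (hq : q ∈ QK) (v : Fin 256) : av q v = v := by
  obtain ⟨b, hb⟩ := comm_za (normForm_mem (v, false)) hq
  show vec _ = _
  rw [mul_assoc, hb, show q⁻¹ * (q * normForm (v, false) * zb b) = normForm (v, false) * zb b by group,
    vec_mul_zb (normForm_mem _), vec_normForm]

theorem av_congr {g h : CA} (e : chi g = chi h) (v : Fin 256) : av g v = av h v := by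
  have hm : g * h⁻¹ ∈ QK := by
    rw [MonoidHom.mem_ker, map_mul, map_inv, e, mul_inv_cancel]
  rw [show g = g * h⁻¹ * h by group, av_mul, av_of_mem hm]

theorem av_add (g : CA) (v w : Fin 256) : av g (vadd v w) = vadd (av g v) (av g w) := by
  have e : vadd v w = vec (normForm (v, false) * normForm (w, false)) := by
    rw [vec_mul (normForm_mem _) (normForm_mem _), vec_normForm, vec_normForm]
  rw [e, ← vec_conj g (mul_mem (normForm_mem _) (normForm_mem _)),
    show g⁻¹ * (normForm (v, false) * normForm (w, false)) * g =
      g⁻¹ * normForm (v, false) * g * (g⁻¹ * normForm (w, false) * g) by group,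
    vec_mul (conj_mem g (normForm_mem _)) (conj_mem g (normForm_mem _))]
  rfl

/-- The word of a normal form. -/
noncomputable def nfW (n : ℕ) (b : Bool) : List ℕ :=
  (List.range 8).flatMap (fun i => cond (Nat.testBit n i) (kerWords.getD i []) []) ++ cond b [0] []

theorem coe_prodOn (n : ℕ) : ∀ {l : List ℕ}, (∀ i ∈ l, i < 8) →
    (prodOn n l : Spor.Th) = ((l.flatMap fun i => cond (Nat.testBit n i) (kerWords.getD i []) []).map thL).prod
  | [], _ => rfl
  | i :: l, h => by
    rw [List.flatMap_cons, List.map_append, List.prod_append,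
      ← coe_prodOn n (l := l) fun k hk => h k (List.mem_cons_of_mem _ hk)]
    show ((cond (Nat.testBit n i) (kx i) 1 * prodOn n l : CA) : Spor.Th) = _
    rw [Subgroup.coe_mul]
    cases Nat.testBit n i with
    | false => simp
    | true => simp [kx_val (h i List.mem_cons_self)]

theorem coe_normForm (v : Fin 256) (b : Bool) : (normForm (v, b) : Spor.Th) = ((nfW v b).map thL).prod := by
  unfold normForm nfW
  rw [Subgroup.coe_mul, coe_prodOn _ fun i hi => List.mem_range.1 hi, List.map_append, List.prod_append]
  cases b <;> simp [zb, za_val]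

/-- An entry of the table. -/
noncomputable def row (j i : ℕ) : Fin 256 := ⟨(actRows.getD j []).getD i 0 % 256, Nat.mod_lt _ (by norm_num)⟩

/-- A sign of the table. -/
def sign (j i : ℕ) : Bool := (actSigns.getD j []).getD i false

/-- A check of one entry. -/
noncomputable def rowOK (j i : ℕ) : Bool :=
  isOne factTree 2197 ([Nat.xor (letters7.getD j 0) 1] ++ kerWords.getD i [] ++ [letters7.getD j 0] ++
    PairEnum.winv (nfW (row j i) (sign j i))) ((actUses.getD j []).getD i [])

theorem rows_ok : ((List.range 7).all fun j => (List.range 8).all fun i => rowOK j i) = true := by decide +kernel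

theorem kx_conj (j : Fin 7) {i : ℕ} (hi : i < 8) : vec ((caL j)⁻¹ * kx i * caL j) = row j i := by
  have h := List.all_eq_true.1 (List.all_eq_true.1 rows_ok j (List.mem_range.2 j.isLt)) i (List.mem_range.2 hi)
  have e := isOne_sound pairsHold reps_first.1 holds h
  rw [List.map_append, List.prod_append, PairEnum.prod_winv thL_flp, mul_inv_eq_one, List.map_append,
    List.prod_append, List.map_append, List.prod_append, List.map_singleton, List.prod_singleton,
    List.map_singleton, List.prod_singleton, show thL (Nat.xor (letters7.getD j 0) 1) = (thL (letters7.getD j 0))⁻¹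
      from thL_flp _, ← coe_normForm, ← kx_val hi] at e
  have e' : (caL j)⁻¹ * kx i * caL j = normForm (row j i, sign j i) := Subtype.ext (by
    rw [Subgroup.coe_mul, Subgroup.coe_mul, Subgroup.coe_inv]
    exact e)
  rw [e', vec_normForm]

/-- The computed action of a letter. -/
noncomputable def lin (j : ℕ) (v : Fin 256) : Fin 256 :=
  (List.range 8).foldr (fun i r => cond (Nat.testBit v i) (vadd (row j i) r) r) 0

theorem av_caL (j : Fin 7) (v : Fin 256) : av (caL j) v = lin j v := by
  have key : ∀ l : List ℕ, (∀ i ∈ l, i < 8) → vec ((caL j)⁻¹ * prodOn v l * caL j) =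
      l.foldr (fun i r => cond (Nat.testBit v i) (vadd (row j i) r) r) 0 := by
    intro l hl
    induction l with
    | nil => simp [prodOn, vec_one]
    | cons i l ih =>
      have hl' : ∀ k ∈ l, k < 8 := fun k hk => hl k (List.mem_cons_of_mem _ hk)
      show vec ((caL j)⁻¹ * (cond (Nat.testBit v i) (kx i) 1 * prodOn v l) * caL j) =
        cond (Nat.testBit v i) (vadd (row j i) (l.foldr _ 0)) (l.foldr _ 0)
      rw [← ih hl']
      cases Nat.testBit v i with
      | false => simp
      | true =>
        rw [cond_true, cond_true, show (caL j)⁻¹ * (kx i * prodOn v l) * caL j =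
          (caL j)⁻¹ * kx i * caL j * ((caL j)⁻¹ * prodOn v l * caL j) by group,
          vec_mul (conj_mem _ (kx_mem (hl i List.mem_cons_self))) (conj_mem _ (prodOn_mem _ hl')),
          kx_conj j (hl i List.mem_cons_self)]
  have h := key (List.range 8) fun i hi => List.mem_range.1 hi
  show vec _ = _
  rw [show normForm (v, false) = prodOn v (List.range 8) by simp [normForm, zb]]
  exact h

/-- A product of letters of the centraliser. -/
noncomputable def caP (w : List (Fin 7)) : CA := (w.map caL).prod

/-- Its action, computed. -/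
noncomputable def wlin (w : List (Fin 7)) (v : Fin 256) : Fin 256 := w.foldl (fun r j => lin j r) v

theorem av_caP (w : List (Fin 7)) (v : Fin 256) : av (caP w) v = wlin w v := by
  induction w generalizing v with
  | nil => exact av_of_mem (one_mem _) v
  | cons j w ih =>
    show av (caL j * caP w) v = _
    rw [av_mul, av_caL, ih]
    rfl

theorem chi_caP (w : List (Fin 7)) : chi (caP w) = (w.map ninePerm).prod := by
  rw [caP, map_list_prod, List.map_map]
  exact congrArg List.prod (List.map_congr_left fun j _ => chi_caL j)

theorem coe_caP (w : List (Fin 7)) :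
    (caP w : Spor.Th) = ((w.map fun j : Fin 7 => letters7.getD j 0).map thL).prod := by
  rw [caP, ← Subgroup.coe_subtype, map_list_prod, List.map_map, List.map_map]
  rfl

end CfsgLib.Sporadic.ThOut
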