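import Cfsg.Agent.Lib.Sporadic.ThOut.Act
import Cfsg.Agent.Lib.ClassSizes.AlternatingAut

/-!
# Automorphisms of the centraliser fixing the central involution are inner (owner: helper3)

Such an automorphism induces a permutation of the nine sets. An odd one would carry an element with fixed names to one
without; an even one may be removed, and then the module, which has no other symmetries, forces the identity on the
kernel, hence everywhere as the centraliser is generated by commutators modulo the kernel.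
-/

set_option autoImplicit false
set_option maxRecDepth 20000
set_option Elab.async false

namespace CfsgLib.Sporadic.ThOut

open Cfsg CfsgLib.Sporadic
open CfsgLib.Sporadic.ThPres.Cent

/-- The map onto the alternating group. -/
noncomputable def chiA : CA →* alternatingGroup (Fin 9) :=
  chi.codRestrict _ fun g => (SetLike.ext_iff.1 range_chi _).1 ⟨g, rfl⟩

theorem chiA_surjective : Function.Surjective chiA := fun x => by
  obtain ⟨g, hg⟩ := (SetLike.ext_iff.1 range_chi _).2 x.2
  exact ⟨g, Subtype.ext hg⟩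

theorem normal_cases (N : Subgroup CA) [N.Normal] : N ≤ QK ∨ ∀ g, ∃ n ∈ N, chi n = chi g := by
  haveI : IsSimpleGroup (alternatingGroup (Fin 9)) := alternatingGroup.isSimpleGroup (by simp)
  have hn : (N.map chiA).Normal := Subgroup.Normal.map inferInstance chiA chiA_surjective
  rcases hn.eq_bot_or_eq_top with h | h
  · left
    intro n hn
    have := Subgroup.mem_map_of_mem chiA hn
    rw [h, Subgroup.mem_bot] at this
    exact MonoidHom.mem_ker.2 (congrArg Subtype.val this)
  · right
    intro g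
    obtain ⟨n, hn, e⟩ : chiA g ∈ N.map chiA := h ▸ Subgroup.mem_top _
    have e' := congrArg Subtype.val e
    exact ⟨n, hn, e'⟩

theorem comm_QK_of_gens {h : CA} (hc : ∀ i < 8, h * kx i = kx i * h) {q : CA} (hq : q ∈ QK) : h * q = q * h := by
  obtain ⟨x, rfl⟩ := normForm_surjective hq
  have hl : ∀ l : List CA, (∀ g ∈ l, Commute h g) → Commute h l.prod := fun l hl => Commute.list_prod_right l h hl
  refine (Commute.mul_right (hl _ fun g hg => ?_) (zb_comm h x.2)).eq
  obtain ⟨i, hi, rfl⟩ := List.mem_map.1 hg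
  cases Nat.testBit x.1 i
  · exact Commute.one_right _
  · exact hc i (List.mem_range.1 hi)

theorem lin2_moves : ¬ lin 2 1 = 1 := by decide +kernel

theorem eq_zb_of_comm {h : CA} (hc : ∀ i < 8, h * kx i = kx i * h) : ∃ b, h = zb b := by
  let N : Subgroup CA := Subgroup.centralizer (QK : Set CA)
  have hN : h ∈ N := Subgroup.mem_centralizer_iff.2 fun q hq => (comm_QK_of_gens hc hq).symm
  haveI : N.Normal := ⟨fun n hn g => Subgroup.mem_centralizer_iff.2 fun q hq => by
    have e := Subgroup.mem_centralizer_iff.1 hn (g⁻¹ * q * g) (conj_mem g hq)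
    calc q * (g * n * g⁻¹) = g * (g⁻¹ * q * g * n) * g⁻¹ := by group
      _ = g * (n * (g⁻¹ * q * g)) * g⁻¹ := by rw [e]
      _ = g * n * g⁻¹ * q := by group⟩
  rcases normal_cases N with h' | h'
  · obtain ⟨x, rfl⟩ := normForm_surjective (h' hN)
    have h0 : x.1 = 0 := par_eq (y := (0, false)) fun j hj => by
      have e := normForm_comm x hj
      rw [← hc j hj, left_eq_mul] at e
      rw [parOn_zero j hj]
      exact zb_inj (c := false) e
    exact ⟨x.2, by rw [show x = ((0 : Fin 256), x.2) from Prod.ext h0 rfl, normForm_zero]⟩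
  · obtain ⟨n, hn, e⟩ := h' (caL 2)
    refine absurd ?_ lin2_moves
    refine Eq.trans (av_caL 2 1).symm ?_
    rw [← av_congr e]
    show vec _ = _
    rw [show n⁻¹ * normForm (1, false) * n = normForm (1, false) by
      rw [mul_assoc, Subgroup.mem_centralizer_iff.1 hn _ (normForm_mem _), inv_mul_cancel_left], vec_normForm]

theorem nine5_four : ¬ ninePerm 5 ^ 4 = 1 := by decide +kernel

theorem map_mem_QK (σ : CA ≃* CA) {q : CA} (hq : q ∈ QK) : σ q ∈ QK := by
  haveI : (QK.map σ.toMonoidHom).Normal := Subgroup.Normal.map inferInstance _ σ.surjective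
  rcases normal_cases (QK.map σ.toMonoidHom) with h | h
  · exact h (Subgroup.mem_map_of_mem _ hq)
  · obtain ⟨_, ⟨r, hr, rfl⟩, e⟩ := h (caL 5)
    refine absurd ?_ nine5_four
    rw [← chi_caL, ← e, ← map_pow, MulEquiv.coe_toMonoidHom, ← map_pow]
    obtain ⟨b, hb⟩ := sq_za hr
    rw [show r ^ 4 = r * r * (r * r) by simp [pow_succ, mul_assoc], hb, zb_mul, Bool.xor_self]
    simp [zb]

theorem chi_map_congr (σ : CA ≃* CA) {g h : CA} (e : chi g = chi h) : chi (σ g) = chi (σ h) := by
  have hm : g * h⁻¹ ∈ QK := by rw [MonoidHom.mem_ker, map_mul, map_inv, e, mul_inv_cancel]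
  have := MonoidHom.mem_ker.1 (map_mem_QK σ hm)
  rwa [map_mul, map_inv, map_mul, map_inv, mul_inv_eq_one] at this

/-- A preimage in the centraliser. -/
noncomputable def sec (x : alternatingGroup (Fin 9)) : CA := Function.surjInv chiA_surjective x

theorem chi_sec (x : alternatingGroup (Fin 9)) : chi (sec x) = x :=
  congrArg Subtype.val (Function.surjInv_eq chiA_surjective x)

/-- The automorphism induced on the alternating group. -/
noncomputable def induced (σ : CA ≃* CA) : MulAut (alternatingGroup (Fin 9)) where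
  toFun x := chiA (σ (sec x))
  invFun x := chiA (σ.symm (sec x))
  left_inv x := Subtype.ext (by
    show chi (σ.symm (sec (chiA (σ (sec x))))) = _
    rw [chi_map_congr σ.symm (chi_sec (chiA (σ (sec x)))), σ.symm_apply_apply, chi_sec])
  right_inv x := Subtype.ext (by
    show chi (σ (sec (chiA (σ.symm (sec x))))) = _
    rw [chi_map_congr σ (chi_sec (chiA (σ.symm (sec x)))), σ.apply_symm_apply, chi_sec])
  map_mul' x y := Subtype.ext (by
    show chi (σ (sec (x * y))) = chi (σ (sec x)) * chi (σ (sec y))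
    rw [← map_mul, ← map_mul, chi_map_congr σ (g := sec (x * y)) (h := sec x * sec y)]
    rw [chi_sec, map_mul, chi_sec, chi_sec]
    rfl)

theorem exists_perm_chi (σ : CA ≃* CA) : ∃ π : Equiv.Perm (Fin 9), ∀ g, chi (σ g) = π * chi g * π⁻¹ := by
  obtain ⟨π, hπ⟩ := (CfsgLib.ClassSizes.AlternatingAut.conjNormal_bijective (α := Fin 9) (by simp) (by simp)).2
    (induced σ)
  refine ⟨π, fun g => ?_⟩
  have e := congrArg Subtype.val (DFunLike.congr_fun hπ (chiA g))
  rw [MulAut.conjNormal_apply] at e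
  rw [show π * chi g * π⁻¹ = _ from e]
  exact chi_map_congr σ (chi_sec (chiA g)).symm

/-- The map induced on names. -/
noncomputable def pmap (σ : CA ≃* CA) (v : Fin 256) : Fin 256 := vec (σ (normForm (v, false)))

section
variable {σ : CA ≃* CA} (hz : σ za = za)
include hz

theorem map_zb (b : Bool) : σ (zb b) = zb b := by
  cases b
  · exact map_one σ
  · exact hz

theorem pmap_vec {q : CA} (hq : q ∈ QK) : vec (σ q) = pmap σ (vec q) := by
  obtain ⟨b, hb⟩ := exists_zb hq
  conv_lhs => rw [hb, show normForm (vec q, b) = normForm (vec q, false) * zb b by simp [normForm, zb], map_mul,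
    map_zb hz, vec_mul_zb (map_mem_QK σ (normForm_mem _))]
  rfl

theorem pmap_av (g : CA) (v : Fin 256) : pmap σ (av g v) = av (σ g) (pmap σ v) := by
  rw [av, ← pmap_vec hz (conj_mem g (normForm_mem _)), map_mul, map_mul, map_inv,
    vec_conj (σ g) (map_mem_QK σ (normForm_mem _))]
  rfl

theorem pmap_add (v w : Fin 256) : pmap σ (vadd v w) = vadd (pmap σ v) (pmap σ w) := by
  have e : vadd v w = vec (normForm (v, false) * normForm (w, false)) := by
    rw [vec_mul (normForm_mem _) (normForm_mem _), vec_normForm, vec_normForm]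
  rw [e, ← pmap_vec hz (mul_mem (normForm_mem _) (normForm_mem _)), map_mul,
    vec_mul (map_mem_QK σ (normForm_mem _)) (map_mem_QK σ (normForm_mem _))]
  rfl

theorem pmap_zero : pmap σ 0 = 0 := by
  rw [pmap, normForm_zero, map_zb hz, vec_zb]

theorem pmap_eq_zero {v : Fin 256} (h : pmap σ v = 0) : v = 0 := by
  obtain ⟨b, hb⟩ := vec_eq_zero (map_mem_QK σ (normForm_mem _)) h
  rw [← map_zb hz b] at hb
  exact (vec_normForm (v, false)).symm.trans (by rw [σ.injective hb, vec_zb])

end

theorem odd_fixed : ∃ v : Fin 256, v ≠ 0 ∧ wlin [2, 4, 3, 6] v = v := by decide +kernel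

theorem odd_free : ∀ v : Fin 256, wlin [3, 4, 6, 2, 6, 4] v = v → v = 0 := by decide +kernel

theorem odd_swap : Equiv.swap 0 1 * (([2, 4, 3, 6] : List (Fin 7)).map ninePerm).prod * Equiv.swap 0 1 =
    (([3, 4, 6, 2, 6, 4] : List (Fin 7)).map ninePerm).prod := by decide +kernel

theorem not_odd {σ : CA ≃* CA} (hz : σ za = za) :
    ¬ ∀ g, chi (σ g) = Equiv.swap 0 1 * chi g * Equiv.swap 0 1 := by
  intro h
  obtain ⟨v, hv0, hv⟩ := odd_fixed
  refine hv0 (pmap_eq_zero hz (odd_free _ ?_))
  have e : chi (σ (caP [2, 4, 3, 6])) = chi (caP [3, 4, 6, 2, 6, 4]) := by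
    rw [h, chi_caP, chi_caP, odd_swap]
  rw [← av_caP, ← av_congr e, ← pmap_av hz, av_caP, hv]

/-- Sums of images of the seventh name giving the basis. -/
def spanWords : List (List (List (Fin 7))) :=
  [[[], [6]], [[], [6, 2]], [[], [6], [6, 2]], [[6], [6, 2, 6]], [[6], [4], [6, 2]], [[6], [6, 2], [4, 2]],
    [[6], [4], [4, 2], [4, 4], [6, 2, 6]], [[6], [4], [6, 2], [4, 2], [4, 3]]]

/-- A basis name. -/
def unitV (i : ℕ) : Fin 256 := ⟨2 ^ i % 256, Nat.mod_lt _ (by norm_num)⟩

theorem span_ok : ∀ i : Fin 8,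
    (spanWords.getD i []).foldr (fun w r => vadd (wlin w 7) r) 0 = unitV i := by decide +kernel

theorem seven_only : ∀ v : Fin 256, lin 2 v = v → lin 3 v = v → v = 0 ∨ v = 7 := by decide +kernel

theorem seven_fixed : lin 2 7 = 7 ∧ lin 3 7 = 7 := by decide +kernel

theorem kx_normForm {i : ℕ} (hi : i < 8) : normForm (unitV i, false) = kx i := by
  interval_cases i <;> simp [normForm, prodOn, unitV, zb, List.range_succ, Nat.testBit]

theorem pmap_unit {σ : CA ≃* CA} (hz : σ za = za) (h : ∀ g, chi (σ g) = chi g) {i : ℕ} (hi : i < 8) :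
    pmap σ (unitV i) = unitV i := by
  have hav : ∀ g v, pmap σ (av g v) = av g (pmap σ v) := fun g v => by rw [pmap_av hz, av_congr (h g)]
  have h7 : pmap σ 7 = 7 := by
    refine (seven_only (pmap σ 7) ?_ ?_).resolve_left fun e => absurd (pmap_eq_zero hz e) (by decide)
    · have := hav (caL 2) 7
      rw [av_caL, av_caL] at this
      exact this.symm.trans (congrArg (pmap σ) seven_fixed.1)
    · have := hav (caL 3) 7
      rw [av_caL, av_caL] at this
      exact this.symm.trans (congrArg (pmap σ) seven_fixed.2)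
  have hw : ∀ w, pmap σ (wlin w 7) = wlin w 7 := fun w => by
    rw [← av_caP, hav, h7]
  have hl : ∀ l : List (List (Fin 7)), pmap σ (l.foldr (fun w r => vadd (wlin w 7) r) 0) =
      l.foldr (fun w r => vadd (wlin w 7) r) 0 := by
    intro l
    induction l with
    | nil => exact pmap_zero hz
    | cons w l ih => rw [List.foldr_cons, pmap_add hz, hw, ih]
  have e := span_ok ⟨i, hi⟩
  rw [← e]
  exact hl _

theorem exists_par (f : Fin 8 → Bool) : ∃ n : Fin 256, ∀ j : Fin 8, parOn n (List.range 8) j = f j := by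
  have hinj : Function.Injective fun (n : Fin 256) (j : Fin 8) => parOn n (List.range 8) j := fun n m e =>
    par_eq (x := (n, false)) (y := (m, false)) fun j hj => congrFun e ⟨j, hj⟩
  obtain ⟨n, hn⟩ := (hinj.bijective_of_nat_card_le (by simp)).2 f
  exact ⟨n, fun j => congrFun hn j⟩

theorem nine_noncomm : ¬ ninePerm 2 * ninePerm 3 = ninePerm 3 * ninePerm 2 := by decide +kernel

/-- An automorphism fixing the kernel pointwise is trivial. -/
theorem eq_self_of_fix (σ : CA ≃* CA) (h : ∀ q ∈ QK, σ q = q) (g : CA) : σ g = g := by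
  have hcen : ∀ g, ∃ b, σ g * g⁻¹ = zb b := fun g => eq_zb_of_comm fun i hi => by
    have e := h _ (conj_mem g (kx_mem hi))
    rw [map_mul, map_mul, map_inv, h _ (kx_mem hi)] at e
    calc σ g * g⁻¹ * kx i = σ g * (g⁻¹ * kx i * g) * g⁻¹ := by group
      _ = σ g * ((σ g)⁻¹ * kx i * σ g) * g⁻¹ := by rw [e]
      _ = kx i * (σ g * g⁻¹) := by group
  let d : CA →* Subgroup.center CA := MonoidHom.mk' (fun g => ⟨σ g * g⁻¹, by
      obtain ⟨b, hb⟩ := hcen g
      rw [hb, Subgroup.mem_center_iff]
      exact fun r => zb_comm r b⟩) fun g k => Subtype.ext (by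
    show σ (g * k) * (g * k)⁻¹ = σ g * g⁻¹ * (σ k * k⁻¹)
    obtain ⟨b, hb⟩ := hcen k
    calc σ (g * k) * (g * k)⁻¹ = σ g * (σ k * k⁻¹) * g⁻¹ := by rw [map_mul]; group
      _ = σ g * (g⁻¹ * zb b) := by rw [hb, mul_assoc, ← zb_comm]
      _ = _ := by rw [← hb, mul_assoc (σ g)])
  rcases normal_cases (commutator CA) with h' | h'
  · have hc : ∀ x y : CA, chi x * chi y = chi y * chi x := fun x y => by
      have hm : chi (x * y * x⁻¹ * y⁻¹) = 1 := MonoidHom.mem_ker.1 (h'
        (Subgroup.commutator_mem_commutator (Subgroup.mem_top x) (Subgroup.mem_top y)))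
      rw [map_mul, map_mul, map_mul, map_inv, map_inv, mul_inv_eq_one, mul_inv_eq_iff_eq_mul] at hm
      exact hm
    exact absurd (by rw [← chi_caL, ← chi_caL]; exact hc _ _) nine_noncomm
  · obtain ⟨n, hn, e⟩ := h' g
    have hker : commutator CA ≤ d.ker := by
      rw [commutator_def, Subgroup.commutator_le]
      intro x _ y _
      rw [MonoidHom.mem_ker, map_commutatorElement, commutatorElement_eq_one_iff_mul_comm]
      exact Subtype.ext (Subgroup.mem_center_iff.1 (d y).2 (d x).1)
    have h1 : d n = 1 := MonoidHom.mem_ker.1 (hker hn)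
    have hq : n⁻¹ * g ∈ QK := by rw [MonoidHom.mem_ker, map_mul, map_inv, e, inv_mul_cancel]
    have h2 : d (n⁻¹ * g) = 1 := Subtype.ext (by
      show σ (n⁻¹ * g) * (n⁻¹ * g)⁻¹ = 1
      rw [h _ hq, mul_inv_cancel])
    have h3 : d g = 1 := by
      rw [show g = n * (n⁻¹ * g) by group, map_mul, h1, h2, one_mul]
    exact mul_inv_eq_one.1 (congrArg Subtype.val h3)

/-- An automorphism of the centraliser fixing its involution is inner. -/
theorem exists_conj (σ : CA ≃* CA) (hz : σ za = za) : ∃ k : CA, ∀ g, σ g = k * g * k⁻¹ := by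
  obtain ⟨π, hπ⟩ := exists_perm_chi σ
  have hconj : ∀ k : CA, (σ.trans (MulAut.conj k⁻¹)) za = za := fun k => by
    show k⁻¹ * σ za * k⁻¹⁻¹ = za
    rw [hz, inv_inv, mul_assoc, ← za_comm, inv_mul_cancel_left]
  have hchi : ∀ k g, chi ((σ.trans (MulAut.conj k⁻¹)) g) = (chi k)⁻¹ * π * chi g * ((chi k)⁻¹ * π)⁻¹ := fun k g => by
    show chi (k⁻¹ * σ g * k⁻¹⁻¹) = _
    rw [map_mul, map_mul, map_inv, map_inv, map_inv, hπ]
    group
  rcases Int.units_eq_one_or (Equiv.Perm.sign π) with hs | hs
  · obtain ⟨k, hk⟩ := (SetLike.ext_iff.1 range_chi π).2 (Equiv.Perm.mem_alternatingGroup.2 hs)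
    set σ₁ := σ.trans (MulAut.conj k⁻¹) with hσ₁
    have h1 : ∀ g, chi (σ₁ g) = chi g := fun g => by rw [hchi, hk]; group
    have hkx : ∀ i < 8, ∃ b, σ₁ (kx i) = kx i * zb b := fun i hi => by
      obtain ⟨b, hb⟩ := exists_zb (map_mem_QK σ₁ (kx_mem hi))
      refine ⟨b, ?_⟩
      rw [hb, pmap_vec (hconj k) (kx_mem hi), ← kx_normForm hi, vec_normForm, pmap_unit (hconj k) h1 hi]
      simp [normForm, zb]
    choose f hf using hkx
    obtain ⟨n, hn⟩ := exists_par fun j => f j j.isLt
    set q := normForm (n, false)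
    set σ₂ := σ₁.trans (MulAut.conj q) with hσ₂
    have hfix : ∀ i < 8, σ₂ (kx i) = kx i := fun i hi => by
      show q * σ₁ (kx i) * q⁻¹ = kx i
      have e := normForm_comm (n, false) hi
      rw [hn ⟨i, hi⟩] at e
      rw [hf i hi, ← mul_assoc, e, mul_assoc (kx i * q), zb_mul, Bool.xor_self]
      simp [zb]
    have hfz : σ₂ za = za := by
      show q * σ₁ za * q⁻¹ = za
      rw [hconj k, za_comm, mul_inv_cancel_right]
    have hQ : ∀ r ∈ QK, σ₂ r = r := fun r hr => by
      obtain ⟨x, rfl⟩ := normForm_surjective hr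
      unfold normForm
      rw [map_mul, map_zb hfz, prodOn, map_list_prod, List.map_map]
      congr 2
      refine List.map_congr_left fun i hi => ?_
      rw [Function.comp_apply]
      cases Nat.testBit x.1 i with
      | false => exact map_one σ₂
      | true => exact hfix i (List.mem_range.1 hi)
    refine ⟨k * q⁻¹, fun g => ?_⟩
    have e : q * (k⁻¹ * σ g * k⁻¹⁻¹) * q⁻¹ = g := eq_self_of_fix σ₂ hQ g
    conv_rhs => rw [← e]
    group
  · have hm : π * Equiv.swap 0 1 ∈ alternatingGroup (Fin 9) := by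
      rw [Equiv.Perm.mem_alternatingGroup, Equiv.Perm.sign_mul, hs, Equiv.Perm.sign_swap (by decide)]
      rfl
    obtain ⟨k, hk⟩ := (SetLike.ext_iff.1 range_chi _).2 hm
    refine absurd (fun g => ?_) (not_odd (hconj k))
    rw [hchi, hk, mul_inv_rev, Equiv.swap_inv, mul_assoc (Equiv.swap 0 1) π⁻¹, inv_mul_cancel, mul_one,
      Equiv.swap_inv]

end CfsgLib.Sporadic.ThOut
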