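import Cfsg.Agent.Lib.Sporadic.ThOut.Inner
import Cfsg.Agent.Lib.Sporadic.ThMult.Traces
import Cfsg.Agent.Lib.Sporadic.ThMult.Conj
import Cfsg.Agent.Lib.Sporadic.ThPres.Lower.Order
import Cfsg.Prelude.Def_KGroupFacts

/-!
# Every automorphism of the presented Thompson group is inner (owner: helper3)

An automorphism carries the central involution to an involution centralised by a Sylow 2-subgroup, so to a conjugate.
After that it is inner on the centraliser of `a`, and on that of `d`; the two agree on their meet, which pins the image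
of `b` down to two candidates, and only one of them commutes with `e`.
-/

set_option autoImplicit false
set_option maxRecDepth 20000
set_option Elab.async false

namespace CfsgLib.Sporadic.ThOut

open Cfsg CfsgLib.Sporadic
open CfsgLib.Sporadic.ThPres (thL L toTh ev rImg imgA bases)
open CfsgLib.Sporadic.ThPres.Cent
open CfsgLib.Sporadic.ThMult (th th_append th_winv th_same same same_ev toTh_prod gD traceD th_trace)

theorem za_val' : ((za : CA) : Spor.Th) = thL 0 := za_val

/-- A Sylow 2-subgroup of the whole group inside the centraliser, over the kernel. -/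
theorem exists_sylow : ∃ S : Sylow 2 Spor.Th, (∀ q ∈ QK, (q : Spor.Th) ∈ S) ∧ (S : Subgroup Spor.Th) ≤ CA := by
  haveI : _root_.Fact (Nat.Prime 2) := ⟨Nat.prime_two⟩
  haveI := ThPres.finite_Th
  have hp : IsPGroup 2 QK := IsPGroup.of_card (n := 9) (by rw [card_ker_chi]; norm_num)
  obtain ⟨P, hP⟩ := hp.exists_le_sylow
  have hc : Nat.card P = 2 ^ 15 := by
    rw [P.card_eq_multiplicity, CA_eq.2]
    congr 1
    rw [show (92897280 : ℕ) = 2 ^ 15 * 2835 by norm_num, Nat.factorization_mul (by norm_num) (by norm_num),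
      Nat.Prime.factorization_pow Nat.prime_two, Finsupp.add_apply, Finsupp.single_eq_same,
      Nat.factorization_eq_zero_of_not_dvd (by norm_num : ¬ 2 ∣ 2835)]
  have hm : Nat.card ((P : Subgroup CA).map CA.subtype) = 2 ^ (Nat.card Spor.Th).factorization 2 := by
    rw [Subgroup.card_map_of_injective Subtype.val_injective]
    show Nat.card P = _
    rw [hc]
    congr 1
    rw [ThPres.card_Th, show (90745943887872000 : ℕ) = 2 ^ 15 * 2769346432125 by norm_num,
      Nat.factorization_mul (by norm_num) (by norm_num),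
      Nat.Prime.factorization_pow Nat.prime_two, Finsupp.add_apply, Finsupp.single_eq_same,
      Nat.factorization_eq_zero_of_not_dvd (by norm_num : ¬ 2 ∣ 2769346432125)]
  exact ⟨Sylow.ofCard _ hm, fun q hq => ⟨q, hP hq, rfl⟩, fun x ⟨y, _, e⟩ => e ▸ y.2⟩

/-- The image of the central involution is a conjugate of it. -/
theorem exists_conj_a (φ : MulAut Spor.Th) : ∃ g : Spor.Th, φ (thL 0) = g * thL 0 * g⁻¹ := by
  haveI : _root_.Fact (Nat.Prime 2) := ⟨Nat.prime_two⟩
  haveI := ThPres.finite_Th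
  obtain ⟨S, hSQ, hSC⟩ := exists_sylow
  have hc : Nat.card ((S : Subgroup Spor.Th).map φ.toMonoidHom) = 2 ^ (Nat.card Spor.Th).factorization 2 := by
    rw [Subgroup.card_map_of_injective φ.injective]
    exact S.card_eq_multiplicity
  obtain ⟨g, hg⟩ := MulAction.exists_smul_eq Spor.Th S (Sylow.ofCard _ hc)
  refine ⟨g, ?_⟩
  have hcomm : ∀ s ∈ S, Commute (g⁻¹ * φ (thL 0) * g) s := by
    intro s hs
    have hmem : g * s * g⁻¹ ∈ (g • S : Sylow 2 Spor.Th) := by
      rw [Sylow.smul_def]
      exact ⟨s, hs, rfl⟩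
    rw [hg] at hmem
    obtain ⟨r, hr, e⟩ := hmem
    have hra : r * thL 0 = thL 0 * r := Subgroup.mem_centralizer_singleton_iff.1 (hSC hr)
    have e' : φ r * φ (thL 0) = φ (thL 0) * φ r := by rw [← map_mul, hra, map_mul]
    rw [MulEquiv.coe_toMonoidHom] at e
    rw [e] at e'
    show g⁻¹ * φ (thL 0) * g * s = s * (g⁻¹ * φ (thL 0) * g)
    calc g⁻¹ * φ (thL 0) * g * s = g⁻¹ * (φ (thL 0) * (g * s * g⁻¹)) * g := by group
      _ = g⁻¹ * (g * s * g⁻¹ * φ (thL 0)) * g := by rw [e']
      _ = _ := by group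
  have hx : g⁻¹ * φ (thL 0) * g ∈ CA := Subgroup.mem_centralizer_singleton_iff.2 (by
    rw [← za_val]; exact (hcomm _ (hSQ za za_mem)).eq)
  obtain ⟨b, hb⟩ := eq_zb_of_comm (h := ⟨_, hx⟩) fun i hi => Subtype.ext (hcomm _ (hSQ _ (kx_mem hi))).eq
  have hb' : g⁻¹ * φ (thL 0) * g = (zb b : Spor.Th) := congrArg Subtype.val hb
  cases b
  · exfalso
    refine za_ne (Subtype.ext (φ.injective ?_))
    rw [za_val, Subgroup.coe_one, map_one]
    calc φ (thL 0) = g * (g⁻¹ * φ (thL 0) * g) * g⁻¹ := by group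
      _ = 1 := by rw [hb']; simp [zb]
  · calc φ (thL 0) = g * (g⁻¹ * φ (thL 0) * g) * g⁻¹ := by group
      _ = _ := by rw [hb', show (zb true : CA) = za from rfl, za_val]

/-- An automorphism fixing the central involution is inner on its centraliser. -/
theorem inner_on_CA {φ : MulAut Spor.Th} (h : φ (thL 0) = thL 0) :
    ∃ k ∈ CA, ∀ g ∈ CA, φ g = k * g * k⁻¹ := by
  have hmem : ∀ (ψ : MulAut Spor.Th), ψ (thL 0) = thL 0 → ∀ g ∈ CA, ψ g ∈ CA := fun ψ hψ g hg => by
    have e := congrArg ψ (Subgroup.mem_centralizer_singleton_iff.1 hg)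
    rw [map_mul, map_mul, hψ] at e
    exact Subgroup.mem_centralizer_singleton_iff.2 e
  have h' : φ.symm (thL 0) = thL 0 := by
    conv_lhs => rw [← h]
    exact φ.symm_apply_apply _
  let σ : CA ≃* CA :=
    { toFun := fun g => ⟨φ g, hmem φ h g g.2⟩
      invFun := fun g => ⟨φ.symm g, hmem φ.symm h' g g.2⟩
      left_inv := fun g => Subtype.ext (φ.symm_apply_apply _)
      right_inv := fun g => Subtype.ext (φ.apply_symm_apply _)
      map_mul' := fun g k => Subtype.ext (map_mul φ _ _) }
  obtain ⟨k, hk⟩ := exists_conj σ (Subtype.ext (by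
    show φ (za : Spor.Th) = za
    rw [za_val, h]))
  exact ⟨k, k.2, fun g hg => congrArg Subtype.val (hk ⟨g, hg⟩)⟩

theorem d_conj : th gD * thL 0 * (th gD)⁻¹ = thL 6 := by
  have h := th_trace traceD
  rw [show ThMult.wordD = gD ++ [0] ++ PairEnum.winv gD ++ [7] by decide +kernel, th_append, th_append, th_append,
    th_winv, ThMult.th_one, ThMult.th_one, show thL 7 = (thL 6)⁻¹ from ThPres.thL_flp 6, mul_inv_eq_one] at h
  exact h

theorem six_six : same [6, 6] [] = true := by decide +kernel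

theorem d_sq : thL 6 * thL 6 = 1 := by
  have h := th_same six_six
  rw [ThMult.th_cons, ThMult.th_one, ThMult.th_nil] at h
  exact h

/-- Two elements centralising the second involution. -/
def dWords : List (List (Fin 7)) := [[5], [3, 2, 4, 3, 2, 4, 3]]

/-- The letters of such a word. -/
noncomputable def dLetters (w : List (Fin 7)) : List ℕ := w.map fun j : Fin 7 => letters7.getD j.val 0

theorem dWords_ok : (dWords.all fun w => same (dLetters w ++ [6]) ([6] ++ dLetters w)) = true := by decide +kernel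

theorem dWords_comm {w : List (Fin 7)} (hw : w ∈ dWords) : Commute (caP w : Spor.Th) (thL 6) := by
  have h := th_same (List.all_eq_true.1 dWords_ok w hw)
  rw [th_append, th_append, ThMult.th_one] at h
  unfold th dLetters at h
  rw [coe_caP]
  exact h

/-- The first permutation. -/
def permT : Equiv.Perm (Fin 9) := ninePerm 5

/-- The second permutation. -/
def permU : Equiv.Perm (Fin 9) := (([3, 2, 4, 3, 2, 4, 3] : List (Fin 7)).map ninePerm).prod

theorem only_zero : ∀ y, permT y = y → permU y = y → y = 0 := by decide +kernel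

theorem one_or_three : ∀ z, permT z = z → z = 0 ∨ z = 1 ∨ z = 3 := by decide +kernel

theorem fixed_facts : permT 0 = 0 ∧ permU 0 = 0 ∧ permT 1 = 1 ∧ ninePerm 2 0 = 0 ∧ ninePerm 2 1 = 3 := by
  decide +kernel

theorem moves : permU 1 = 8 ∧ permT 8 = 5 ∧ permT 5 = 4 ∧ permU 4 = 6 ∧ permT 6 = 2 ∧ permT 2 = 7 ∧ permU 7 = 3 := by
  decide +kernel

theorem d_comm_perm : ninePerm 2 * permT = permT * ninePerm 2 ∧ ninePerm 2 * permU = permU * ninePerm 2 := by
  decide +kernel

theorem pi_cases {π : Equiv.Perm (Fin 9)} (ht : π * permT = permT * π) (hu : π * permU = permU * π) :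
    π = 1 ∨ π = ninePerm 2 := by
  obtain ⟨t0, u0, t1, d0, d1⟩ := fixed_facts
  obtain ⟨m1, m2, m3, m4, m5, m6, m7⟩ := moves
  have h0 : π 0 = 0 := only_zero _ (by rw [← Equiv.Perm.mul_apply, ← ht, Equiv.Perm.mul_apply, t0])
    (by rw [← Equiv.Perm.mul_apply, ← hu, Equiv.Perm.mul_apply, u0])
  have key : ∀ ρ : Equiv.Perm (Fin 9), ρ * permT = permT * ρ → ρ * permU = permU * ρ → π 0 = ρ 0 → π 1 = ρ 1 →
      π = ρ := by
    intro ρ rt ru e0 e1
    have st : ∀ {k l}, permT k = l → π k = ρ k → π l = ρ l := fun {k l} hk e => by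
      rw [← hk, ← Equiv.Perm.mul_apply, ← Equiv.Perm.mul_apply, ht, rt, Equiv.Perm.mul_apply, Equiv.Perm.mul_apply, e]
    have su : ∀ {k l}, permU k = l → π k = ρ k → π l = ρ l := fun {k l} hk e => by
      rw [← hk, ← Equiv.Perm.mul_apply, ← Equiv.Perm.mul_apply, hu, ru, Equiv.Perm.mul_apply, Equiv.Perm.mul_apply, e]
    have e8 := su m1 e1
    have e5 := st m2 e8
    have e4 := st m3 e5
    have e6 := su m4 e4
    have e2 := st m5 e6
    have e7 := st m6 e2
    have e3 := su m7 e7
    refine Equiv.ext fun k => ?_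
    fin_cases k
    exacts [e0, e1, e2, e3, e4, e5, e6, e7, e8]
  rcases one_or_three (π 1) (by rw [← Equiv.Perm.mul_apply, ← ht, Equiv.Perm.mul_apply, t1]) with h | h | h
  · exact absurd (π.injective (h.trans h0.symm)) (by decide)
  · exact Or.inl (key 1 (by simp) (by simp) (by simpa using h0) (by simpa using h))
  · exact Or.inr (key _ d_comm_perm.1 d_comm_perm.2 (h0.trans d0.symm) (h.trans d1.symm))

theorem fixed_names : ∀ v : Fin 256, wlin [5] v = v → wlin [3, 2, 4, 3, 2, 4, 3] v = v → v = 0 ∨ v = 4 := by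
  decide +kernel

/-- An element of the meet of the two centralisers centralising the two words. -/
theorem meet_cases {h : CA} (hw : ∀ w ∈ dWords, Commute h (caP w)) :
    ∃ b, ∃ γ : Bool, h = zb b * cond γ (caL 2) 1 ∨ h = kx 2 * zb b * cond γ (caL 2) 1 := by
  have hdd : caL 2 * caL 2 = 1 := Subtype.ext (show thL 6 * thL 6 = 1 from d_sq)
  have hT : chi (caP [5]) = permT := by rw [chi_caP]; simp [permT]
  have hU : chi (caP [3, 2, 4, 3, 2, 4, 3]) = permU := by rw [chi_caP]; rfl
  have hcases : chi h = 1 ∨ chi h = ninePerm 2 := by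
    refine pi_cases ?_ ?_
    · rw [← hT, ← map_mul, ← map_mul, (hw [5] (by simp [dWords])).eq]
    · rw [← hU, ← map_mul, ← map_mul, (hw [3, 2, 4, 3, 2, 4, 3] (by simp [dWords])).eq]
  obtain ⟨γ, hq⟩ : ∃ γ : Bool, h * cond γ (caL 2) 1 ∈ QK := by
    rcases hcases with e | e
    · exact ⟨false, MonoidHom.mem_ker.2 (by rw [cond_false, mul_one, e])⟩
    · exact ⟨true, MonoidHom.mem_ker.2 (by rw [cond_true, map_mul, e, ← chi_caL, ← map_mul, hdd, map_one])⟩
  have hcancel : h = h * cond γ (caL 2) 1 * cond γ (caL 2) 1 := by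
    cases γ
    · simp
    · rw [cond_true, mul_assoc, hdd, mul_one]
  have hfix : ∀ w ∈ dWords, wlin w (vec (h * cond γ (caL 2) 1)) = vec (h * cond γ (caL 2) 1) := by
    intro w hwm
    have hwd : Commute (caP w) (caL 2) := Subtype.ext (dWords_comm hwm).eq
    have hc : Commute (h * cond γ (caL 2) 1) (caP w) := by
      refine Commute.mul_left (hw w hwm) ?_
      cases γ
      · exact Commute.one_left _
      · exact hwd.symm
    rw [← av_caP, ← vec_conj _ hq, mul_assoc, hc.eq, inv_mul_cancel_left]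
  obtain ⟨b, hb⟩ := exists_zb hq
  refine ⟨b, γ, ?_⟩
  rcases fixed_names _ (hfix [5] (by simp [dWords])) (hfix [3, 2, 4, 3, 2, 4, 3] (by simp [dWords])) with e | e
  · left
    rw [hcancel, hb, e, normForm_zero]
  · right
    rw [hcancel, hb, e, ← kx_normForm (show 2 < 8 by norm_num)]
    simp [normForm, zb, unitV]

/-- The word of the second generator twisted by a kernel element, times the fifth generator. -/
noncomputable def twistL : List ℕ := kerWords.getD 2 [] ++ [2] ++ PairEnum.winv (kerWords.getD 2 []) ++ [8]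

/-- The two factors in the other order. -/
noncomputable def twistR : List ℕ := [8] ++ kerWords.getD 2 [] ++ [2] ++ PairEnum.winv (kerWords.getD 2 [])

theorem twist_ok : ((twistL ++ twistR).all (fun k => Nat.blt k 14) &&
    bases.any fun b => !(Nat.beq (rImg imgA twistL b) (rImg imgA twistR b))) = true := by decide +kernel

theorem twist_ne : th twistL ≠ th twistR := by
  intro e
  have hok := twist_ok
  simp only [Bool.and_eq_true, List.all_eq_true, List.mem_append, Nat.blt_eq, List.any_eq_true, Bool.not_eq_true'] at hok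
  obtain ⟨hlt, b, hb, hne⟩ := hok
  have hl : ∀ k ∈ twistL, k < 14 := fun k hk => hlt k (Or.inl hk)
  have hr : ∀ k ∈ twistR, k < 14 := fun k hk => hlt k (Or.inr hk)
  rw [← toTh_prod hl, ← toTh_prod hr] at e
  have e' := ThPres.toTh_injective e
  rw [← ThPres.ev_small hl, ← ThPres.ev_small hr] at e'
  have hb' : b < 819 := by
    simp only [bases, List.mem_cons, List.not_mem_nil, or_false] at hb
    omega
  have hA : ∀ {w : List ℕ}, (∀ k ∈ w, k < 14) → ThPres.isA w = true := fun h =>
    ThPres.isA_iff.2 fun k hk => (h k hk).trans (by norm_num)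
  rw [← ThPres.ev_ract (hA hl) hb', ← ThPres.ev_ract (hA hr) hb', e', Nat.beq_refl] at hne
  simp at hne

theorem same_ok : (same [2, 6] [6, 2] && same [2, 8] [8, 2] && same [0, 8] [8, 0] && same [0, 6] [6, 0]) = true := by
  decide +kernel

theorem comm_of_same {i j : ℕ} (h : same [i, j] [j, i] = true) : Commute (thL i) (thL j) := by
  have e := th_same h
  rwa [ThMult.th_cons, ThMult.th_one, ThMult.th_cons, ThMult.th_one] at e

/-- An automorphism fixing the centraliser of `a` pointwise is conjugation by a power of `a`. -/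
theorem inner_of_fix {φ : MulAut Spor.Th} (hfix : ∀ g ∈ CA, φ g = g) : φ ∈ Cfsg.Inn Spor.Th := by
  have hok := same_ok
  simp only [Bool.and_eq_true] at hok
  have c26 := comm_of_same hok.1.1.1
  have c28 := comm_of_same hok.1.1.2
  have c08 := comm_of_same hok.1.2
  have c06 := comm_of_same hok.2
  have hmem : ∀ j : Fin 7, thL (letters7.getD j 0) ∈ CA := letter_mem
  have fix0 : φ (thL 0) = thL 0 := hfix _ (hmem 0)
  have fix6 : φ (thL 6) = thL 6 := hfix _ (hmem 2)
  have fix8 : φ (thL 8) = thL 8 := hfix _ (hmem 3)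
  set g := th gD
  have hgd : g * thL 0 * g⁻¹ = thL 6 := d_conj
  have hψ : ((MulAut.conj g)⁻¹ * φ * MulAut.conj g) (thL 0) = thL 0 := by
    show g⁻¹ * φ (g * thL 0 * g⁻¹) * g = thL 0
    rw [hgd, fix6, ← hgd]
    group
  obtain ⟨k, -, hk⟩ := inner_on_CA hψ
  set H := g * k * g⁻¹
  have hD : ∀ y : Spor.Th, Commute y (thL 6) → φ y = H * y * H⁻¹ := fun y hy => by
    have hm : g⁻¹ * y * g ∈ CA := Subgroup.mem_centralizer_singleton_iff.2 (by
      rw [show thL 0 = g⁻¹ * thL 6 * g by rw [← hgd]; group]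
      calc g⁻¹ * y * g * (g⁻¹ * thL 6 * g) = g⁻¹ * (y * thL 6) * g := by group
        _ = g⁻¹ * (thL 6 * y) * g := by rw [hy.eq]
        _ = _ := by group)
    have e : g⁻¹ * φ (g * (g⁻¹ * y * g) * g⁻¹) * g = k * (g⁻¹ * y * g) * k⁻¹ := hk _ hm
    rw [show g * (g⁻¹ * y * g) * g⁻¹ = y by group] at e
    calc φ y = g * (g⁻¹ * φ y * g) * g⁻¹ := by group
      _ = _ := by rw [e]; simp only [H]; group
  have hcomm : ∀ y ∈ CA, Commute y (thL 6) → Commute H y := fun y hy hy6 => by
    have e := hD y hy6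
    rw [hfix y hy] at e
    exact (mul_inv_eq_iff_eq_mul.1 e.symm)
  have hH : H ∈ CA := Subgroup.mem_centralizer_singleton_iff.2 (hcomm _ (hmem 0) c06).eq
  obtain ⟨b, γ, hh⟩ := meet_cases (h := ⟨H, hH⟩)
    fun w hw => Subtype.ext (hcomm _ (caP w).2 (dWords_comm hw)).eq
  have hγ : ∀ x : CA, ((x * cond γ (caL 2) 1 : CA) : Spor.Th) * thL 2 * ((x * cond γ (caL 2) 1 : CA) : Spor.Th)⁻¹ =
      (x : Spor.Th) * thL 2 * (x : Spor.Th)⁻¹ := fun x => by
    cases γ
    · simp
    · show (x : Spor.Th) * thL 6 * thL 2 * ((x : Spor.Th) * thL 6)⁻¹ = _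
      rw [mul_inv_rev, mul_assoc (x : Spor.Th) (thL 6), ← c26.eq]
      group
  set z : Spor.Th := ((zb b : CA) : Spor.Th)
  have hzC : ∀ y ∈ CA, Commute z y := fun y hy => congrArg Subtype.val (zb_comm ⟨y, hy⟩ b).symm
  have hb : φ (thL 2) = z * thL 2 * z⁻¹ := by
    have e := hD (thL 2) c26
    rcases hh with hh | hh
    · rw [e, show H = ((zb b * cond γ (caL 2) 1 : CA) : Spor.Th) from congrArg Subtype.val hh, hγ]
    · exfalso
      rw [show H = ((kx 2 * zb b * cond γ (caL 2) 1 : CA) : Spor.Th) from congrArg Subtype.val hh, hγ,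
        Subgroup.coe_mul] at e
      set q : Spor.Th := ((kx 2 : CA) : Spor.Th)
      have hz8 : Commute z (thL 8) := hzC _ (hmem 3)
      have h1 : Commute (φ (thL 2)) (thL 8) := by
        rw [← fix8]
        exact c28.map φ.toMonoidHom
      rw [e] at h1
      have hqz : Commute z q := hzC _ (kx 2).2
      have h2 : Commute (q * thL 2 * q⁻¹) (thL 8) := by
        have h3 := (hz8.inv_left.mul_left h1).mul_left hz8
        rwa [show z⁻¹ * (q * z * thL 2 * (q * z)⁻¹) * z = q * thL 2 * q⁻¹ by rw [← hqz.eq]; group] at h3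
      refine twist_ne ?_
      simp only [twistL, twistR, th_append, th_winv, ThMult.th_one]
      rw [show th (kerWords.getD 2 []) = q from (kx_val (show 2 < 8 by norm_num)).symm, h2.eq]
      group
  refine ⟨z, ?_⟩
  have hhom : (MulAut.conj z).toMonoidHom = φ.toMonoidHom := by
    refine PresentedGroup.ext fun x => ?_
    rw [show (PresentedGroup.of x : Spor.Th) = thL (ThPres.code (x, true)) from (ThPres.thL_code (x, true)).symm]
    show z * thL (ThPres.code (x, true)) * z⁻¹ = φ (thL (ThPres.code (x, true)))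
    have case : ∀ j : Fin 7, z * thL (letters7.getD j 0) * z⁻¹ = φ (thL (letters7.getD j 0)) := fun j => by
      rw [hfix _ (hmem j), (hzC _ (hmem j)).eq, mul_inv_cancel_right]
    cases x
    exacts [case 0, hb.symm, case 1, case 2, case 3, case 4, case 5, case 6]
  exact MulEquiv.ext fun y => DFunLike.congr_fun hhom y

/-- Every automorphism is inner. -/
theorem all_inner (φ : MulAut Spor.Th) : φ ∈ Cfsg.Inn Spor.Th := by
  obtain ⟨g, hg⟩ := exists_conj_a φ
  have h1 : ((MulAut.conj g)⁻¹ * φ) (thL 0) = thL 0 := by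
    show g⁻¹ * φ (thL 0) * g = thL 0
    rw [hg]
    group
  obtain ⟨k, -, hk⟩ := inner_on_CA h1
  have h2 : ∀ y ∈ CA, ((MulAut.conj k)⁻¹ * ((MulAut.conj g)⁻¹ * φ)) y = y := fun y hy => by
    show k⁻¹ * (g⁻¹ * φ y * g) * k = y
    rw [show g⁻¹ * φ y * g = k * y * k⁻¹ from hk y hy]
    group
  have h3 := inner_of_fix h2
  have e : φ = MulAut.conj g * (MulAut.conj k * ((MulAut.conj k)⁻¹ * ((MulAut.conj g)⁻¹ * φ))) := by group
  rw [e]
  exact mul_mem ⟨g, rfl⟩ (mul_mem ⟨k, rfl⟩ h3)

end CfsgLib.Sporadic.ThOut
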